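import Mathlib
import Groth.Prelude.Def_CohSite
import Groth.Agent.S0905

set_option linter.unusedSectionVars false
set_option linter.unusedVariables false
set_option linter.unusedSimpArgs false
set_option autoImplicit false
set_option linter.style.haveILetI false
set_option maxHeartbeats 400000

universe u

noncomputable section

namespace Groth.Agent.Helper6.CohS

open CategoryTheory CategoryTheory.Limits Opposite

variable {C : Type u} [SmallCategory C] (J : GrothendieckTopology C)

/-- sections over `U` -/
abbrev secF (U : C) : Sheaf J AddCommGrpCat.{u} ⥤ AddCommGrpCat.{u} :=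
  sheafToPresheaf J AddCommGrpCat.{u} ⋙ (evaluation Cᵒᵖ AddCommGrpCat.{u}).obj (op U)

lemma secF_preservesEpi (U : C) (hU : CohSite.IsWeaklyContractible J U) :
    (secF J U).PreservesEpimorphisms where
  preserves {F G} e he := by
    have := Groth.Agent.S0905.surj_of_epi J U hU e
    exact (AddCommGrpCat.epi_iff_surjective _).2 this

lemma lim_secF_preservesEpi (ι : Type u) (U : C) (hU : CohSite.IsWeaklyContractible J U) :
    (lim (J := Discrete ι) (C := Sheaf J AddCommGrpCat.{u}) ⋙ secF J U).PreservesEpimorphisms := by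
  haveI := secF_preservesEpi J U hU
  haveI h1 : ((Functor.whiskeringRight (Discrete ι) _ _).obj (secF J U)).PreservesEpimorphisms := by
    constructor
    intro X Y f hf
    rw [NatTrans.epi_iff_epi_app] at hf ⊢
    intro i
    exact (secF J U).map_epi (f.app i)
  haveI h2 : (lim (J := Discrete ι) (C := AddCommGrpCat.{u})).PreservesEpimorphisms :=
    inferInstance
  haveI h3 : ((Functor.whiskeringRight (Discrete ι) _ _).obj (secF J U) ⋙
      lim (J := Discrete ι) (C := AddCommGrpCat.{u})).PreservesEpimorphisms := inferInstance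
  exact Functor.PreservesEpimorphisms.of_iso (preservesLimitNatIso (secF J U)).symm

lemma lim_preservesEpi (ι : Type u) (B : Set C)
    (hB : ∀ U ∈ B, CohSite.IsWeaklyContractible J U)
    (hcov : ∀ V : C, ∃ (κ : Type u) (U : κ → C) (f : ∀ i, U i ⟶ V),
      (∀ i, U i ∈ B) ∧ Sieve.ofArrows U f ∈ J V) :
    (lim (J := Discrete ι) (C := Sheaf J AddCommGrpCat.{u})).PreservesEpimorphisms where
  preserves {X₀ Y₀} f hf := by
    rw [← Sheaf.isLocallySurjective_iff_epi' AddCommGrpCat.{u}]
    constructor
    intro V s
    obtain ⟨κ, U, g, hUB, hmem⟩ := hcov V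
    refine J.superset_covering ?_ hmem
    rw [Sieve.ofArrows, Sieve.generate_le_iff]
    rintro W _ ⟨k⟩
    haveI := lim_secF_preservesEpi J ι (U k) (hB _ (hUB k))
    have hepi : Epi ((lim (J := Discrete ι) (C := Sheaf J AddCommGrpCat.{u}) ⋙
      secF J (U k)).map f) := inferInstance
    have hs := (AddCommGrpCat.epi_iff_surjective _).1 hepi
    obtain ⟨t, ht⟩ := hs (((lim (J := Discrete ι) (C := Sheaf J AddCommGrpCat.{u})).obj Y₀).obj.map
      (g k).op s)
    exact ⟨t, ht⟩

theorem ab4Star (B : Set C)
    (hB : ∀ U ∈ B, CohSite.IsWeaklyContractible J U)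
    (hcov : ∀ V : C, ∃ (κ : Type u) (U : κ → C) (f : ∀ i, U i ⟶ V),
      (∀ i, U i ∈ B) ∧ Sieve.ofArrows U f ∈ J V) :
    AB4Star (Sheaf J AddCommGrpCat.{u}) where
  ofShape ι := by
    haveI := lim_preservesEpi J ι B hB hcov
    exact hasExactLimitsOfShape_of_preservesEpi _ _

end Groth.Agent.Helper6.CohS
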