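import Mathlib

set_option linter.unusedSectionVars false
set_option linter.unusedVariables false
set_option linter.unusedSimpArgs false
set_option autoImplicit false
set_option linter.style.haveILetI false
set_option maxHeartbeats 400000

universe w v u

noncomputable section

namespace Groth.Agent.Helper6.CohS

open CategoryTheory CategoryTheory.Limits Opposite

variable {C : Type u} [Category.{v} C] (J : GrothendieckTopology C)
  [HasSheafify J AddCommGrpCat.{w}] [J.WEqualsLocallyBijective AddCommGrpCat.{w}]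

/-- sections over `U` (general universes) -/
abbrev secG (U : C) : Sheaf J AddCommGrpCat.{w} ⥤ AddCommGrpCat.{w} :=
  sheafToPresheaf J AddCommGrpCat.{w} ⋙ (evaluation Cᵒᵖ AddCommGrpCat.{w}).obj (op U)

lemma secG_surj_of_epi (U : C)
    (hU : ∀ (P Q : Sheaf J (Type w)) (ψ : P ⟶ Q), Epi ψ →
      Function.Surjective (ψ.hom.app (op U)))
    {F G : Sheaf J AddCommGrpCat.{w}} (e : F ⟶ G) [Epi e] :
    Function.Surjective (e.hom.app (op U)) := by
  have h1 : Sheaf.IsLocallySurjective e :=
    (Sheaf.isLocallySurjective_iff_epi' AddCommGrpCat.{w} e).2 inferInstance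
  have h3 : Epi ((sheafCompose J (forget AddCommGrpCat.{w})).map e) := inferInstance
  exact hU _ _ _ h3

lemma secG_preservesEpi (U : C)
    (hU : ∀ (P Q : Sheaf J (Type w)) (ψ : P ⟶ Q), Epi ψ →
      Function.Surjective (ψ.hom.app (op U))) :
    (secG.{w} J U).PreservesEpimorphisms where
  preserves {F G} e he := by
    have := secG_surj_of_epi J U hU e
    exact (AddCommGrpCat.epi_iff_surjective _).2 this

lemma exact_sections_of_exact (U : C)
    (hU : ∀ (P Q : Sheaf J (Type w)) (ψ : P ⟶ Q), Epi ψ →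
      Function.Surjective (ψ.hom.app (op U)))
    (S : ShortComplex (Sheaf J AddCommGrpCat.{w})) (hS : S.Exact) :
    (S.map (secG.{w} J U)).Exact := by
  haveI := secG_preservesEpi J U hU
  haveI : PreservesFiniteLimits (secG.{w} J U) := inferInstance
  haveI : (secG.{w} J U).Additive :=
    haveI := preservesBinaryBiproducts_of_preservesBinaryProducts (secG.{w} J U)
    Functor.additive_of_preservesBinaryBiproducts _
  haveI := Functor.preservesHomology_of_preservesEpis_and_kernels (secG.{w} J U)
  exact hS.map (secG.{w} J U)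

lemma exact_of_exact_sections (B : C → Prop)
    (hcov : ∀ V : C, ∃ S : Sieve V, S ∈ J V ∧ ∀ ⦃W : C⦄ (f : W ⟶ V), S.arrows f →
      ∃ (U : C) (g : W ⟶ U) (h : U ⟶ V), B U ∧ g ≫ h = f)
    (S : ShortComplex (Sheaf J AddCommGrpCat.{w}))
    (hS : ∀ U : C, B U → (S.map (secG.{w} J U)).Exact) : S.Exact := by
  rw [ShortComplex.exact_iff_epi_toCycles]
  refine (Sheaf.isLocallySurjective_iff_epi' AddCommGrpCat.{w} S.toCycles).1 ?_
  constructor
  intro V z
  obtain ⟨R, hR, hfac⟩ := hcov V
  refine J.superset_covering ?_ hR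
  intro W f hf
  obtain ⟨U, g, h, hBU, rfl⟩ := hfac f hf
  -- the section of `X₂` over `V`
  have hinj : ∀ W : C, Function.Injective (S.iCycles.hom.app (op W)) := by
    intro W
    have : Mono ((secG.{w} J W).map S.iCycles) := inferInstance
    exact (AddCommGrpCat.mono_iff_injective _).1 this
  have hex := (ShortComplex.ab_exact_iff _).1 (hS U hBU)
  have hz : S.g.hom.app (op U) (S.X₂.obj.map h.op (S.iCycles.hom.app (op V) z)) = 0 := by
    have h1 : S.iCycles.hom.app (op V) ≫ S.X₂.obj.map h.op ≫ S.g.hom.app (op U) = 0 := by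
      rw [S.g.hom.naturality, ← Category.assoc]
      have : S.iCycles.hom.app (op V) ≫ S.g.hom.app (op V) = 0 := by
        rw [← NatTrans.comp_app, ← ObjectProperty.FullSubcategory.comp_hom, S.iCycles_g]; rfl
      rw [this, zero_comp]
    exact ConcreteCategory.congr_hom h1 z
  obtain ⟨t, ht⟩ := hex _ hz
  refine ⟨S.X₁.obj.map g.op t, ?_⟩
  apply hinj
  have e1 : S.toCycles.hom.app (op W) ≫ S.iCycles.hom.app (op W) = S.f.hom.app (op W) := by
    rw [← NatTrans.comp_app, ← ObjectProperty.FullSubcategory.comp_hom, S.toCycles_i]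
  have e2 := S.f.hom.naturality g.op
  have e3 := S.iCycles.hom.naturality (g ≫ h).op
  have ht' : S.f.hom.app (op U) t =
      S.X₂.obj.map h.op (S.iCycles.hom.app (op V) z) := ht
  have e4 : S.X₂.obj.map (g ≫ h).op = S.X₂.obj.map h.op ≫ S.X₂.obj.map g.op := by
    rw [op_comp, Functor.map_comp]
  calc S.iCycles.hom.app (op W) (S.toCycles.hom.app (op W) (S.X₁.obj.map g.op t))
      = S.f.hom.app (op W) (S.X₁.obj.map g.op t) := ConcreteCategory.congr_hom e1 _
    _ = S.X₂.obj.map g.op (S.f.hom.app (op U) t) := ConcreteCategory.congr_hom e2 t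
    _ = S.X₂.obj.map g.op (S.X₂.obj.map h.op (S.iCycles.hom.app (op V) z)) := by rw [ht']
    _ = S.X₂.obj.map (g ≫ h).op (S.iCycles.hom.app (op V) z) := by rw [e4]; rfl
    _ = S.iCycles.hom.app (op W) (S.cycles.obj.map (g ≫ h).op z) :=
        (ConcreteCategory.congr_hom e3 z).symm

end Groth.Agent.Helper6.CohS
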